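import Groth.Prelude.Def_W4c6eohyperellchar2Gc
import Mathlib.Tactic
import Mathlib.FieldTheory.Perfect
import Mathlib.LinearAlgebra.Finsupp.LinearCombination
import Mathlib.LinearAlgebra.StdBasis

set_option autoImplicit false
universe u

namespace K978.Gc

open W4c6eohyperellchar2

variable {c : ℕ} {k : Type u}

theorem coefX_X [Zero k] [One k] (n m : ℕ) (h1 : 1 ≤ m) (h2 : m ≤ c) :
    coefX (X c k n) m = if m = n then 1 else 0 := by
  simp only [coefX, X]
  rw [dif_pos ⟨h1, h2⟩]
  simp only [show m - 1 + 1 = m by omega]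

theorem coefY_Y [Zero k] [One k] (n m : ℕ) (h1 : 1 ≤ m) (h2 : m ≤ c) :
    coefY (Y c k n) m = if m = n then 1 else 0 := by
  simp only [coefY, Y]
  rw [dif_pos ⟨h1, h2⟩]
  simp only [show m - 1 + 1 = m by omega]

theorem coefX_Y [Zero k] [One k] (n m : ℕ) : coefX (Y c k n) m = 0 := by
  simp only [coefX, Y]
  split_ifs <;> rfl

theorem coefY_X [Zero k] [One k] (n m : ℕ) : coefY (X c k n) m = 0 := by
  simp only [coefY, X]
  split_ifs <;> rfl

theorem coefX_of_not [Zero k] (v : GcMod c k) (m : ℕ) (h : ¬ (1 ≤ m ∧ m ≤ c)) : coefX v m = 0 := by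
  simp only [coefX]; rw [dif_neg h]

theorem coefY_of_not [Zero k] (v : GcMod c k) (m : ℕ) (h : ¬ (1 ≤ m ∧ m ≤ c)) : coefY v m = 0 := by
  simp only [coefY]; rw [dif_neg h]

theorem F_X_even [CommRing k] (m : ℕ) (h2 : 2 * m ≤ c) :
    F c k (X c k (2 * m)) = X c k m := by
  refine Prod.ext ?_ ?_
  · funext i
    simp only [F]
    by_cases hi : 2 * (i.val + 1) ≤ c
    · rw [coefX_X _ _ (by omega) hi]
      simp only [X]
      by_cases h : i.val + 1 = m
      · rw [if_pos (by omega), if_pos h, one_pow]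
      · rw [if_neg (by omega), if_neg h]; ring
    · rw [coefX_of_not _ _ (by omega)]
      simp only [X]
      rw [if_neg (by omega)]; ring
  · funext i
    simp only [F]
    by_cases hi : 2 * (c - (i.val + 1)) + 1 ≤ c
    · rw [coefX_X _ _ (by omega) hi, if_neg (by omega)]
      simp only [X]
      simp
    · rw [coefX_of_not _ _ (by omega)]
      simp only [X]
      simp

theorem F_X_odd [CommRing k] (m : ℕ) (h2 : 2 * m + 1 ≤ c) :
    F c k (X c k (2 * m + 1)) = Y c k (c - m) := by
  refine Prod.ext ?_ ?_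
  · funext i
    simp only [F]
    by_cases hi : 2 * (i.val + 1) ≤ c
    · rw [coefX_X _ _ (by omega) hi, if_neg (by omega)]
      simp [Y]
    · rw [coefX_of_not _ _ (by omega)]
      simp [Y]
  · funext i
    have hi0 := i.2
    simp only [F]
    by_cases hi : 2 * (c - (i.val + 1)) + 1 ≤ c
    · rw [coefX_X _ _ (by omega) hi]
      simp only [Y]
      by_cases h : i.val + 1 = c - m
      · rw [if_pos (by omega), if_pos h, one_pow]
      · rw [if_neg (by omega), if_neg h]; ring
    · rw [coefX_of_not _ _ (by omega)]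
      simp only [Y]
      rw [if_neg (by omega)]; ring

variable [CommRing k] [ExpChar k 2] [PerfectRing k 2]

theorem V_Y (m : ℕ) : V c k (Y c k m) = Y c k (2 * m) := by
  refine Prod.ext rfl ?_
  funext i
  have hi0 := i.2
  simp only [V, Y]
  by_cases hp : (i.val + 1) % 2 = 0
  · rw [if_pos hp]
    have h1 : coefY ((0, fun i => if i.val + 1 = m then 1 else 0) : GcMod c k) ((i.val + 1) / 2) =
      if (i.val + 1) / 2 = m then 1 else 0 := coefY_Y m _ (by omega) (by omega)
    rw [h1]
    by_cases h : (i.val + 1) / 2 = m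
    · rw [if_pos h, if_pos (by omega), map_one]
    · rw [if_neg h, if_neg (by omega), map_zero]
  · rw [if_neg hp]
    have h1 : coefX ((0, fun i => if i.val + 1 = m then 1 else 0) : GcMod c k) ((2 * c - i.val) / 2) = 0 :=
      coefX_Y m _
    rw [h1, if_neg (by omega), map_zero]

theorem V_X (j : ℕ) (hj : j ≤ c) (hcj : c < 2 * j) : V c k (X c k j) = Y c k (2 * c - 2 * j + 1) := by
  refine Prod.ext rfl ?_
  funext i
  have hi0 := i.2
  simp only [V, Y]
  by_cases hp : (i.val + 1) % 2 = 0
  · rw [if_pos hp, coefY_X, if_neg (by omega), map_zero]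
  · rw [if_neg hp, coefX_X _ _ (by omega) (by omega)]
    by_cases h : i.val + 1 = 2 * c - 2 * j + 1
    · rw [if_pos (by omega), if_pos h, map_one]
    · rw [if_neg (by omega), if_neg h, map_zero]

theorem Y_eq_V_odd (m : ℕ) (h1 : m ≤ c) (h2 : m % 2 = 1) : V c k (X c k (c - (m - 1) / 2)) = Y c k m := by
  rw [V_X _ (by omega) (by omega)]
  congr 1
  omega

omit [ExpChar k 2] [PerfectRing k 2] in
theorem eq_sum (v : GcMod c k) :
    v = ∑ i : Fin c, v.1 i • X c k (i.val + 1) + ∑ i : Fin c, v.2 i • Y c k (i.val + 1) := by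
  refine Prod.ext ?_ ?_
  · funext t
    rw [Prod.fst_add, Prod.fst_sum, Prod.fst_sum, Pi.add_apply, Finset.sum_apply, Finset.sum_apply]
    simp only [X, Y, Prod.smul_mk, smul_zero, Pi.smul_apply, smul_eq_mul, Pi.zero_apply, Finset.sum_const_zero, add_zero]
    rw [Finset.sum_eq_single t]
    · simp
    · intro b _ hb
      rw [if_neg (fun h => hb (Fin.ext (by omega))), mul_zero]
    · intro h; exact absurd (Finset.mem_univ _) h
  · funext t
    rw [Prod.snd_add, Prod.snd_sum, Prod.snd_sum, Pi.add_apply, Finset.sum_apply, Finset.sum_apply]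
    simp only [X, Y, Prod.smul_mk, smul_zero, Pi.smul_apply, smul_eq_mul, Pi.zero_apply, Finset.sum_const_zero, zero_add]
    rw [Finset.sum_eq_single t]
    · simp
    · intro b _ hb
      rw [if_neg (fun h => hb (Fin.ext (by omega))), mul_zero]
    · intro h; exact absurd (Finset.mem_univ _) h

end K978.Gc
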